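import Groth.Agent.Lib.NodeModel.Algebra
import Groth.Agent.H25.Node.Scheme
import Groth.Agent.H25.Node.AtWorst
import Groth.Agent.H25.Node.SmoothPoint
import Groth.Agent.H25.Node.Dim
import Mathlib.RingTheory.Smooth.Basic
import Mathlib.RingTheory.KrullDimension.PID
import Mathlib.RingTheory.Spectrum.Prime.Jacobson
import Mathlib.AlgebraicGeometry.Morphisms.Smooth

/-!
# The node model over a field is a nodal curve
-/

set_option autoImplicit false
set_option linter.style.haveILetI false

universe u

open CategoryTheory CategoryTheory.Limits AlgebraicGeometry TopologicalSpace IsLocalRing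

namespace Groth.Agent.Lib.NodeModel.Field

open StrictSS (NodeAlg nodeToBase)
open Groth.Agent.Lib.NodeModel.Algebra

variable {k : Type u} [Field k]

theorem isMaximal_of_lt_polynomial {p q : Ideal (Polynomial k)} [q.IsPrime] (h : p < q) :
    q.IsMaximal :=
  IsPrime.to_maximal_ideal (fun e => not_lt_bot (e ▸ h))

theorem isMaximal_of_lt_torus {p q : Ideal (Torus k)} [p.IsPrime] [hq : q.IsPrime] (h : p < q) :
    q.IsMaximal := by
  let M := Submonoid.powers (Polynomial.X : Polynomial k)
  let φ := algebraMap (Polynomial k) (Torus k)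
  have hlt : p.comap φ < q.comap φ := by
    refine lt_of_le_of_ne (Ideal.comap_mono h.le) fun e => h.ne ?_
    have e' := congrArg (Ideal.map φ) e
    rwa [IsLocalization.map_under M, IsLocalization.map_under M] at e'
  have := isMaximal_of_lt_polynomial hlt
  obtain ⟨m, hm, hle⟩ := Ideal.exists_le_maximal q hq.ne_top
  have e := congrArg (Ideal.map φ) (this.eq_of_le (Ideal.comap_ne_top φ hm.ne_top) (Ideal.comap_mono hle))
  rw [IsLocalization.map_under M, IsLocalization.map_under M] at e
  exact e ▸ hm

/-- Off the origin of a degenerate model, i.e. for a unit parameter, the model is the torus. -/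
theorem torusEquiv {a : k} (ha : a ≠ 0) : Nonempty (NodeAlg k a ≃ₐ[k] Torus k) := by
  have hu : IsUnit (gen a 0) := by
    refine IsUnit.of_mul_eq_one (gen a 1 * algebraMap k _ a⁻¹) ?_
    rw [← mul_assoc, gen_mul, ← map_mul, mul_inv_cancel₀ ha, map_one]
  obtain ⟨e⟩ := away a
  exact ⟨((IsLocalization.atUnit (NodeAlg k a) (Localization.Away (gen a 0)) (gen a 0) hu).restrictScalars k).trans e⟩

theorem isMaximal_of_lt_zero {p q : Ideal (NodeAlg k 0)} [p.IsPrime] [q.IsPrime] (h : p < q)
    (hp : gen (0 : k) 1 ∈ p) : q.IsMaximal := by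
  let φ : NodeAlg k 0 →ₐ[k] Polynomial k := axis
  have hker : ∀ r : Ideal (NodeAlg k 0), gen (0 : k) 1 ∈ r → RingHom.ker φ.toRingHom ≤ r :=
    fun r hr => by
      show RingHom.ker (axis (k := k)) ≤ r
      rw [ker_axis, Ideal.span_le, Set.singleton_subset_iff]; exact hr
  have hs : Function.Surjective φ.toRingHom := axis_surjective
  have := Ideal.map_isPrime_of_surjective hs (hker q (h.le hp))
  have hlt : p.map φ.toRingHom < q.map φ.toRingHom := by
    refine lt_of_le_of_ne (Ideal.map_mono h.le) fun e => h.ne ?_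
    have e' := congrArg (Ideal.comap φ.toRingHom) e
    rwa [Ideal.comap_map_of_surjective _ hs, Ideal.comap_map_of_surjective _ hs,
      ← RingHom.ker_eq_comap_bot, sup_eq_left.2 (hker p hp), sup_eq_left.2 (hker q (h.le hp))] at e'
  have hmax := isMaximal_of_lt_polynomial hlt
  have := Ideal.comap_isMaximal_of_surjective φ.toRingHom hs (K := q.map φ.toRingHom)
  rwa [Ideal.comap_map_of_surjective _ hs, ← RingHom.ker_eq_comap_bot,
    sup_eq_left.2 (hker q (h.le hp))] at this

theorem isMaximal_of_lt {a : k} {p q : Ideal (NodeAlg k a)} [p.IsPrime] [q.IsPrime] (h : p < q) :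
    q.IsMaximal := by
  by_cases ha : a = 0
  · subst ha
    rcases mem_or_mem rfl p with h0 | h1
    · let σ := swap (0 : k)
      have hlt : p.comap σ.toRingHom < q.comap σ.toRingHom := by
        refine lt_of_le_of_ne (Ideal.comap_mono h.le) fun e => h.ne ?_
        exact Ideal.comap_injective_of_surjective σ.toRingHom σ.surjective e
      have := isMaximal_of_lt_zero hlt (by
        show σ (gen (0 : k) 1) ∈ p
        rw [swap_gen]
        exact h0)
      have h' := Ideal.map_eq_top_or_isMaximal_of_surjective σ.toRingHom σ.surjective this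
      rw [Ideal.map_comap_of_surjective σ.toRingEquiv.toRingHom σ.surjective] at h'
      exact h'.resolve_left (Ideal.IsPrime.ne_top ‹_›)
    · exact isMaximal_of_lt_zero h h1
  · obtain ⟨e⟩ := torusEquiv ha
    have hlt : p.comap e.symm.toRingHom < q.comap e.symm.toRingHom := by
      refine lt_of_le_of_ne (Ideal.comap_mono h.le) fun e' => h.ne ?_
      exact Ideal.comap_injective_of_surjective e.symm.toRingHom e.symm.surjective e'
    have := isMaximal_of_lt_torus hlt
    have h' := Ideal.map_eq_top_or_isMaximal_of_surjective e.symm.toRingHom e.symm.surjective this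
    rw [Ideal.map_comap_of_surjective e.symm.toRingEquiv.toRingHom e.symm.surjective] at h'
    exact h'.resolve_left (Ideal.IsPrime.ne_top ‹_›)

theorem dim_le_one (a : k) : ringKrullDim (NodeAlg k a) ≤ 1 := by
  refine le_of_le_of_eq (Ring.krullDimLE_iff.1 (Ring.krullDimLE_one_iff.2 fun I hI => ?_)) (by simp)
  rw [or_iff_not_imp_left]
  intro hmin
  obtain ⟨p, hp, hple⟩ := Ideal.exists_minimalPrimes_le (J := I) bot_le
  have := hp.1.1
  exact isMaximal_of_lt (lt_of_le_of_ne hple fun e => hmin (e ▸ hp))

instance : IsDomain (Torus k) :=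
  IsLocalization.isDomain_localization (powers_le_nonZeroDivisors_of_noZeroDivisors (Polynomial.X_ne_zero (R := k)))

theorem torus_not_isMaximal_bot : ¬ (⊥ : Ideal (Torus k)).IsMaximal := by
  intro h
  have hf : IsUnit (Polynomial.eval₂RingHom (RingHom.id k) 1 Polynomial.X) := by simp
  let g : Torus k →+* k := IsLocalization.Away.lift (S := Torus k) (Polynomial.X : Polynomial k) hf
  let z : Torus k := algebraMap (Polynomial k) (Torus k) (Polynomial.X - 1)
  have hgz : g z = 0 := by simp [g, z, IsLocalization.Away.lift_eq]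
  have hne : RingHom.ker g ≠ ⊤ := RingHom.ker_ne_top g
  have h2 : z ∈ RingHom.ker g := RingHom.mem_ker.2 hgz
  rw [← h.eq_of_le hne bot_le, Ideal.mem_bot] at h2
  have := IsLocalization.injective (Torus k)
    (powers_le_nonZeroDivisors_of_noZeroDivisors (Polynomial.X_ne_zero (R := k)))
  exact Polynomial.X_sub_C_ne_zero (1 : k)
    (by rw [map_one]; exact this (h2.trans (map_zero _).symm))

theorem exists_lt {a : k} (m : Ideal (NodeAlg k a)) [hm : m.IsMaximal] :
    ∃ p : Ideal (NodeAlg k a), p.IsPrime ∧ p < m := by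
  by_cases ha : a = 0
  · subst ha
    have key : ∀ n : Ideal (NodeAlg k 0), n.IsMaximal → gen (0 : k) 1 ∈ n →
        ∃ p : Ideal (NodeAlg k 0), p.IsPrime ∧ p < n := fun n hn h1 => by
      refine ⟨RingHom.ker (axis (k := k)).toRingHom, RingHom.ker_isPrime _, lt_of_le_of_ne ?_ ?_⟩
      · show RingHom.ker (axis (k := k)) ≤ n
        rw [ker_axis, Ideal.span_le, Set.singleton_subset_iff]; exact h1
      · intro e
        have h' := Ideal.map_eq_top_or_isMaximal_of_surjective (axis (k := k)).toRingHom
          axis_surjective hn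
        rw [← e, (Ideal.map_eq_bot_iff_le_ker _).2 le_rfl] at h'
        rcases h' with h' | h'
        · exact absurd h' bot_ne_top
        · have hX : Ideal.span {(Polynomial.X : Polynomial k)} ≠ ⊤ := fun h =>
            Polynomial.not_isUnit_X (Ideal.span_singleton_eq_top.1 h)
          exact absurd (Ideal.span_singleton_eq_bot.1 (h'.eq_of_le hX bot_le).symm) Polynomial.X_ne_zero
    rcases mem_or_mem rfl m with h0 | h1
    · let σ := swap (0 : k)
      obtain ⟨p, hp, hlt⟩ := key _ (Ideal.comap_isMaximal_of_surjective σ.toRingHom σ.surjective (K := m))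
        (by show σ (gen (0 : k) 1) ∈ m; rw [swap_gen]; exact h0)
      refine ⟨p.comap σ.symm.toRingHom, Ideal.IsPrime.comap _, ?_⟩
      have e : (m.comap σ.toRingHom).comap σ.symm.toRingHom = m := Ideal.ext fun x => by
        show σ (σ.symm x) ∈ m ↔ x ∈ m
        rw [AlgEquiv.apply_symm_apply]
      refine lt_of_le_of_ne ((Ideal.comap_mono hlt.le).trans e.le) fun e' => hlt.ne ?_
      exact Ideal.comap_injective_of_surjective σ.symm.toRingHom σ.symm.surjective (e'.trans e.symm)
    · exact key m hm h1
  · obtain ⟨e⟩ := torusEquiv ha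
    refine ⟨RingHom.ker e.toRingHom, RingHom.ker_isPrime _, lt_of_le_of_ne ?_ ?_⟩
    · exact (RingHom.ker_eq_bot_iff_eq_zero e.toRingHom).2 (fun x hx => e.injective (hx.trans (map_zero e).symm)) ▸ bot_le
    · intro h
      have h' := Ideal.map_eq_top_or_isMaximal_of_surjective e.toRingHom e.surjective hm
      rw [← h, (Ideal.map_eq_bot_iff_le_ker _).2 le_rfl] at h'
      rcases h' with h' | h'
      · exact absurd h' bot_ne_top
      · exact torus_not_isMaximal_bot h'

section origin

variable {A' : Type u} [CommRing A'] [IsLocalRing A'] [IsNoetherianRing A'] [Algebra (NodeAlg k 0) A']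

/-- The coefficients used to bound the lengths from below. -/
noncomputable def coeffs (n : ℕ) : NodeAlg k 0 →ₗ[k] (Fin (n + 1) → k) × (Fin n → k) :=
  (LinearMap.prodMap (LinearMap.pi fun i : Fin (n + 1) => Polynomial.lcoeff k i)
    (LinearMap.pi fun i : Fin n => Polynomial.lcoeff k i)).comp (nfBar (0 : k))

theorem coeffs_surjective (n : ℕ) : Function.Surjective (coeffs (k := k) n) := by
  rw [← LinearMap.range_eq_top, eq_top_iff]
  have h1 : ∀ (i : ℕ) (c : k), nfBar (0 : k) (Ideal.Quotient.mk _
      (c • MvPolynomial.monomial (Finsupp.single 0 i) 1)) = (Polynomial.monomial i c, 0) := fun i c => by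
    rw [nfBar_mk, map_smul, nfMap_monomial]
    simp [nf, Polynomial.smul_monomial]
  have h2 : ∀ (i : ℕ) (c : k), nfBar (0 : k) (Ideal.Quotient.mk _
      (c • MvPolynomial.monomial (Finsupp.single 1 (i + 1)) 1)) = (0, Polynomial.monomial i c) :=
    fun i c => by
      rw [nfBar_mk, map_smul, nfMap_monomial]
      simp [nf, Polynomial.smul_monomial]
  rintro ⟨v, w⟩ -
  refine ⟨(∑ i : Fin (n + 1), Ideal.Quotient.mk _ (v i • MvPolynomial.monomial (Finsupp.single 0 (i : ℕ)) 1)) +
    ∑ i : Fin n, Ideal.Quotient.mk _ (w i • MvPolynomial.monomial (Finsupp.single 1 ((i : ℕ) + 1)) 1), ?_⟩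
  simp only [coeffs, LinearMap.comp_apply, map_add, map_sum, h1, h2]
  ext i
  · simp [Polynomial.coeff_monomial, Finset.sum_apply, Fin.val_inj, Prod.fst_sum]
  · simp [Polynomial.coeff_monomial, Finset.sum_apply, Fin.val_inj, Prod.snd_sum]

theorem map_idealOfVars : (MvPolynomial.idealOfVars (Fin 2) k).map (Ideal.Quotient.mk (rel (0 : k))) =
    Ideal.span {gen (0 : k) 0, gen (0 : k) 1} := by
  rw [MvPolynomial.idealOfVars, Ideal.map_span, ← Set.range_comp]
  congr 1
  ext x
  simp [Fin.exists_fin_two, eq_comm]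

theorem coeffs_eq_zero (n : ℕ) {x : NodeAlg k 0}
    (hx : x ∈ Ideal.span {gen (0 : k) 0, gen (0 : k) 1} ^ (n + 1)) : coeffs n x = 0 := by
  rw [← map_idealOfVars, ← Ideal.map_pow] at hx
  obtain ⟨p, hp, rfl⟩ := (Ideal.mem_map_iff_of_surjective _ Ideal.Quotient.mk_surjective).1 hx
  rw [p.as_sum, map_sum, map_sum]
  refine Finset.sum_eq_zero fun d hd => ?_
  have hdeg := (MvPolynomial.mem_pow_idealOfVars_iff _ _).1 hp d hd
  rw [Finsupp.degree_eq_sum, Fin.sum_univ_two] at hdeg
  have hc : MvPolynomial.monomial d (p.coeff d) = p.coeff d • MvPolynomial.monomial d (1 : k) := by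
    rw [MvPolynomial.smul_monomial, smul_eq_mul, mul_one]
  show coeffs n (Ideal.Quotient.mk _ (MvPolynomial.monomial d (p.coeff d))) = 0
  rw [hc]
  simp only [coeffs, LinearMap.comp_apply]
  rw [nfBar_mk, map_smul, nfMap_monomial, map_smul]
  refine smul_eq_zero_of_right _ ?_
  simp only [nf]
  split_ifs with h
  · ext i
    · have := i.2
      rcases Nat.eq_zero_or_pos (d 1) with h0 | h0
      · simp only [LinearMap.prodMap_apply, LinearMap.pi_apply, Polynomial.lcoeff_apply,
          Polynomial.coeff_monomial, h0]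
        simp only [Nat.sub_zero]
        rw [if_neg (by omega)]; rfl
      · simp [zero_pow h0.ne']
    · simp
  · ext i
    · simp
    · have := i.2
      rcases Nat.eq_zero_or_pos (d 0) with h0 | h0
      · simp only [LinearMap.prodMap_apply, LinearMap.pi_apply, Polynomial.lcoeff_apply,
          Polynomial.coeff_monomial, h0]
        rw [if_neg (by omega)]; rfl
      · simp [zero_pow h0.ne']

theorem span_isMaximal : (Ideal.span {gen (0 : k) 0, gen (0 : k) 1}).IsMaximal := by
  let ε : NodeAlg k 0 →ₐ[k] k := lift (0 : k) 0 0 (by simp)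
  have hs : Function.Surjective ε := fun c => ⟨algebraMap k _ c, ε.commutes c⟩
  suffices h : RingHom.ker ε = Ideal.span {gen (0 : k) 0, gen (0 : k) 1} from
    h ▸ RingHom.ker_isMaximal_of_surjective ε hs
  refine le_antisymm (fun x hx => ?_) ?_
  · let π := Ideal.Quotient.mkₐ k (Ideal.span {gen (0 : k) 0, gen (0 : k) 1})
    have hπ : (Algebra.ofId k _).comp ε = π := by
      refine hom_ext (0 : k) (C := NodeAlg k 0 ⧸ Ideal.span {gen (0 : k) 0, gen (0 : k) 1})
        (f := (Algebra.ofId k _).comp ε) (g := π) fun i => ?_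
      have h0 : π (gen (0 : k) i) = 0 := Ideal.Quotient.eq_zero_iff_mem.2
        (Ideal.subset_span (by fin_cases i <;> simp))
      rw [h0]
      fin_cases i <;> simp [ε, lift_gen]
    refine Ideal.Quotient.eq_zero_iff_mem.1 ?_
    show π x = 0
    rw [← hπ, AlgHom.comp_apply, RingHom.mem_ker.1 hx]
    exact map_zero (algebraMap k _)
  · rw [Ideal.span_le, Set.insert_subset_iff, Set.singleton_subset_iff]
    exact ⟨by simp [ε, lift_gen], by simp [ε, lift_gen]⟩

theorem residue_surjective [(Ideal.span {gen (0 : k) 0, gen (0 : k) 1}).IsPrime]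
    [IsLocalization.AtPrime A' (Ideal.span {gen (0 : k) 0, gen (0 : k) 1})]
    [Algebra k A'] [IsScalarTower k (NodeAlg k 0) A'] :
    Function.Surjective ((residue A').comp (algebraMap k A')) := by
  intro z
  obtain ⟨z, rfl⟩ := IsLocalRing.residue_surjective z
  set m := Ideal.span {gen (0 : k) 0, gen (0 : k) 1} with hm
  haveI := span_isMaximal (k := k)
  have hk : ∀ b : NodeAlg k 0, ∃ c : k, b - algebraMap k _ c ∈ m := fun b => by
    let ε : NodeAlg k 0 →ₐ[k] k := lift (0 : k) 0 0 (by simp)
    refine ⟨ε b, ?_⟩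
    have hker : RingHom.ker ε = m := (this.eq_of_le (RingHom.ker_ne_top ε.toRingHom) (by
      rw [Ideal.span_le, Set.insert_subset_iff, Set.singleton_subset_iff]
      exact ⟨by simp [ε, lift_gen], by simp [ε, lift_gen]⟩)).symm
    rw [← hker, RingHom.mem_ker, map_sub, AlgHom.commutes, Algebra.algebraMap_self, RingHom.id_apply, sub_self]
  obtain ⟨⟨b, s⟩, hbs⟩ := IsLocalization.surj m.primeCompl z
  obtain ⟨c, hc⟩ := hk b
  obtain ⟨d, hd⟩ := hk s.1
  have key : ∀ {b : NodeAlg k 0} {c : k}, b - algebraMap k _ c ∈ m →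
      residue A' (algebraMap _ A' b) = residue A' (algebraMap k A' c) := fun {b c} h => by
    rw [IsScalarTower.algebraMap_apply k (NodeAlg k 0) A', ← sub_eq_zero, ← map_sub, ← map_sub,
      residue_eq_zero_iff]
    exact (IsLocalization.AtPrime.to_map_mem_maximal_iff A' m _).2 h
  have hd0 : d ≠ 0 := fun e => s.2 (by simpa [e] using hd)
  refine ⟨c / d, ?_⟩
  have h := congrArg (residue A') hbs
  rw [map_mul, key hc, key hd] at h
  have h1 : algebraMap k A' d * algebraMap k A' d⁻¹ = 1 := by
    rw [← map_mul, mul_inv_cancel₀ hd0, map_one]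
  rw [RingHom.comp_apply, div_eq_mul_inv, map_mul, map_mul, ← h, mul_assoc, ← map_mul (residue A'),
    h1, map_one, mul_one]

/-- The origin is a nodal point. -/
theorem isNodal [(Ideal.span {gen (0 : k) 0, gen (0 : k) 1}).IsPrime]
    [IsLocalization.AtPrime A' (Ideal.span {gen (0 : k) 0, gen (0 : k) 1})] :
    H25.Node.IsNodal A' := by
  set m := Ideal.span {gen (0 : k) 0, gen (0 : k) 1} with hm
  haveI hmax := span_isMaximal (k := k)
  letI : Algebra k A' := ((algebraMap (NodeAlg k 0) A').comp (algebraMap k _)).toAlgebra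
  haveI : IsScalarTower k (NodeAlg k 0) A' := IsScalarTower.of_algebraMap_eq (R := k) (S := NodeAlg k 0) (A := A') fun _ => rfl
  set x := algebraMap (NodeAlg k 0) A' (gen (0 : k) 0) with hx
  set y := algebraMap (NodeAlg k 0) A' (gen (0 : k) 1) with hy
  have hxy : Ideal.span {x, y} = maximalIdeal A' := by
    rw [← IsLocalization.AtPrime.map_eq_maximalIdeal m A', hm, Ideal.map_span, Set.image_pair]
  have hmul : x * y = 0 := by
    rw [hx, hy, ← map_mul, gen_mul]
    exact (congrArg _ (RingHom.map_zero _)).trans (RingHom.map_zero _)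
  refine H25.Node.IsNodal.of_le hxy (v := ![0, 1, 0]) (by simp [H25.Node.quad, hmul])
    (by simp [H25.Node.disc]) fun n => ?_
  let Q := A' ⧸ maximalIdeal A' ^ (n + 1)
  have hlen : Module.length k Q = Module.length A' Q := by
    haveI : IsLocalHom (algebraMap k A') := ⟨fun c hc => isUnit_iff_ne_zero.2 fun h0 => by
      rw [h0, map_zero] at hc; exact not_isUnit_zero hc⟩
    rw [IsLocalRing.length_restrictScalars k A' Q]
    have hs : Function.Surjective (algebraMap (ResidueField k) (ResidueField A')) := fun z => by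
      obtain ⟨c, hc⟩ := residue_surjective (k := k) (A' := A') z
      exact ⟨residue k c, hc⟩
    rw [Module.length_eq_of_surjective hs, Module.length_eq_one (ResidueField A') (ResidueField A'),
      mul_one]
  rw [← hlen]
  let e : (NodeAlg k 0 ⧸ m ^ (n + 1)) →ₐ[k] Q := Ideal.Quotient.liftₐ _
    ((Ideal.Quotient.mkₐ k (maximalIdeal A' ^ (n + 1))).comp (IsScalarTower.toAlgHom k _ A'))
    fun b hb => Ideal.Quotient.eq_zero_iff_mem.2 (by
      rw [← IsLocalization.AtPrime.map_eq_maximalIdeal m A', ← Ideal.map_pow]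
      exact Ideal.mem_map_of_mem _ hb)
  let c : (NodeAlg k 0 ⧸ m ^ (n + 1)) →ₗ[k] (Fin (n + 1) → k) × (Fin n → k) :=
    ((m ^ (n + 1)).restrictScalars k).liftQ (coeffs n) fun b hb => coeffs_eq_zero n hb
  have hc : Function.Surjective c := fun z => by
    obtain ⟨b, rfl⟩ := coeffs_surjective n z
    exact ⟨Ideal.Quotient.mk _ b, rfl⟩
  have hinj : Function.Injective e := by
    let q : A' →+* NodeAlg k 0 ⧸ m ^ (n + 1) := IsLocalization.lift (M := m.primeCompl) (S := A') (P := NodeAlg k 0 ⧸ m ^ (n + 1))
      (g := Ideal.Quotient.mk (m ^ (n + 1))) fun s => by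
        obtain ⟨b, i, hi, hbi⟩ := hmax.exists_inv s.2
        have hnil : IsNilpotent (Ideal.Quotient.mk (m ^ (n + 1)) i) :=
          ⟨n + 1, by rw [← map_pow]; exact Ideal.Quotient.eq_zero_iff_mem.2 (Ideal.pow_mem_pow hi _)⟩
        have h1 : IsUnit (Ideal.Quotient.mk (m ^ (n + 1)) (b * s.1)) := by
          rw [eq_sub_of_add_eq hbi, map_sub, map_one]
          exact hnil.isUnit_one_sub
        rw [map_mul] at h1
        exact ((Commute.isUnit_mul_iff (by show _ = _; rw [← map_mul, ← map_mul]; exact congrArg _ (mul_comm b s.1))).1 h1).2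
    have hq : ∀ b, q (algebraMap _ A' b) = Ideal.Quotient.mk _ b := IsLocalization.lift_eq _
    let q' : Q →+* NodeAlg k 0 ⧸ m ^ (n + 1) := Ideal.Quotient.lift _ q fun z hz => by
      have : maximalIdeal A' ^ (n + 1) ≤ RingHom.ker q := by
        rw [← IsLocalization.AtPrime.map_eq_maximalIdeal m A', ← Ideal.map_pow, Ideal.map_le_iff_le_comap]
        exact fun b hb => (hq b).trans (Ideal.Quotient.eq_zero_iff_mem.2 hb)
      exact this hz
    intro b b' h
    obtain ⟨b, rfl⟩ := Ideal.Quotient.mk_surjective b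
    obtain ⟨b', rfl⟩ := Ideal.Quotient.mk_surjective b'
    rw [← hq b, ← hq b']
    exact congrArg q' h
  calc ((2 * n + 1 : ℕ) : ℕ∞) = Module.length k ((Fin (n + 1) → k) × (Fin n → k)) := by
        rw [Module.length_eq_finrank, Module.finrank_prod, Module.finrank_fin_fun,
          Module.finrank_fin_fun]
        congr 1; omega
    _ ≤ Module.length k (NodeAlg k 0 ⧸ m ^ (n + 1)) := Module.length_le_of_surjective c hc
    _ ≤ Module.length k Q := Module.length_le_of_injective e.toLinearMap hinj

end origin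

section scheme

variable (a : k)

theorem stalkMap_algebraMap (x : Spec (CommRingCat.of (NodeAlg k a))) (c : k) :
    letI : (Spec (CommRingCat.of (NodeAlg k a))).Over (Spec (CommRingCat.of k)) := ⟨nodeToBase k a⟩
    letI : Algebra (NodeAlg k a) ((Spec (CommRingCat.of (NodeAlg k a))).presheaf.stalk x) :=
      StructureSheaf.stalkAlgebra _ x
    Curv2.stalkMap k (Spec (CommRingCat.of (NodeAlg k a))) x c =
      algebraMap (NodeAlg k a) _ (algebraMap k (NodeAlg k a) c) := by
  letI : (Spec (CommRingCat.of (NodeAlg k a))).Over (Spec (CommRingCat.of k)) := ⟨nodeToBase k a⟩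
  rw [H25.Node.SmoothPoint.stalkMap_eq]
  let φ : CommRingCat.of k ⟶ CommRingCat.of (NodeAlg k a) :=
    CommRingCat.ofHom (algebraMap k (NodeAlg k a))
  have h := congr($(Scheme.ΓSpecIso_inv_naturality φ) ≫
    (Spec (CommRingCat.of (NodeAlg k a))).presheaf.germ ⊤ x trivial)
  simp only [Category.assoc] at h
  exact (congrArg (fun g => g.hom c) h).symm

theorem mem_smoothLocus [(Spec (CommRingCat.of (NodeAlg k a))).Over (Spec (CommRingCat.of k))]
    [LocallyOfFinitePresentation ((Spec (CommRingCat.of (NodeAlg k a))) ↘ Spec (CommRingCat.of k))]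
    (hover : ((Spec (CommRingCat.of (NodeAlg k a))) ↘ Spec (CommRingCat.of k)) = nodeToBase k a)
    (x : PrimeSpectrum (NodeAlg k a)) (hx : gen a 0 ∉ x.asIdeal ∨ gen a 1 ∉ x.asIdeal) :
    x ∈ ((Spec (CommRingCat.of (NodeAlg k a))) ↘ Spec (CommRingCat.of k)).smoothLocus := by
  set f := (Spec (CommRingCat.of (NodeAlg k a))) ↘ Spec (CommRingCat.of k) with hf
  obtain ⟨σ, hσ⟩ : ∃ σ : NodeAlg k a ≃ₐ[k] NodeAlg k a, σ (gen a 0) ∉ x.asIdeal := by
    rcases hx with h | h
    · exact ⟨AlgEquiv.refl, h⟩
    · refine ⟨swap a, ?_⟩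
      rw [swap_gen]
      exact h
  set r := σ (gen a 0)
  let w : Spec (CommRingCat.of (Localization.Away r)) ⟶ Spec (CommRingCat.of (NodeAlg k a)) :=
    Spec.map (CommRingCat.ofHom (algebraMap (NodeAlg k a) (Localization.Away r)))
  haveI : IsOpenImmersion w := IsOpenImmersion.of_isLocalization r
  haveI : Algebra.Smooth k (Torus k) := by
    haveI : Algebra.Smooth k (Polynomial k) := {}
    haveI : Algebra.Smooth (Polynomial k) (Torus k) :=
      Algebra.Smooth.of_isLocalization_Away (Polynomial.X : Polynomial k)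
    exact Algebra.Smooth.comp k (Polynomial k) (Torus k)
  obtain ⟨e⟩ := away a
  haveI : IsLocalization.Away (σ.toRingEquiv (gen a 0)) (Localization.Away r) :=
    inferInstanceAs (IsLocalization.Away r (Localization.Away r))
  let e₁ : Localization.Away (gen a 0) ≃+* Localization.Away r :=
    IsLocalization.ringEquivOfRingEquiv (M := Submonoid.powers (gen a 0)) (T := Submonoid.powers r)
      (Localization.Away (gen a 0)) (Localization.Away r) σ.toRingEquiv (Submonoid.map_powers _ _)
  let e₂ : Localization.Away (gen a 0) ≃ₐ[k] Localization.Away r :=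
    AlgEquiv.ofRingEquiv (f := e₁) fun c => by
      rw [IsScalarTower.algebraMap_apply k (NodeAlg k a) (Localization.Away (gen a 0))]
      simp only [e₁]
      erw [IsLocalization.ringEquivOfRingEquiv_eq]
      exact congrArg _ (σ.commutes c) |>.trans
        (IsScalarTower.algebraMap_apply k (NodeAlg k a) (Localization.Away r) c).symm
  haveI : Algebra.Smooth k (Localization.Away r) := Algebra.Smooth.of_equiv (e.symm.trans e₂)
  haveI : Smooth (w ≫ f) := by
    have : w ≫ f = Spec.map (CommRingCat.ofHom (algebraMap k (Localization.Away r))) := by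
      rw [hover, ← Spec.map_comp]
      rfl
    rw [this, HasRingHomProperty.Spec_iff (P := @Smooth)]
    exact RingHom.smooth_algebraMap.2 ‹_›
  obtain ⟨z, hz⟩ : x ∈ Set.range w := by
    rw [show Set.range w = Set.range (PrimeSpectrum.comap (algebraMap (NodeAlg k a) (Localization.Away r))) from rfl,
      PrimeSpectrum.localization_away_comap_range (Localization.Away r) r]
    exact hσ
  have h : z ∈ w ⁻¹ᵁ f.smoothLocus := by
    rw [Scheme.Hom.preimage_smoothLocus_eq, Scheme.Hom.smoothLocus_eq_top]; trivial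
  rw [← hz]
  exact h

/-- The node model over a field: pure dimension one with at worst nodes. -/
theorem nodal :
    letI : (Spec (CommRingCat.of (NodeAlg k a))).Over (Spec (CommRingCat.of k)) := ⟨nodeToBase k a⟩
    (∀ Z ∈ irreducibleComponents (Spec (CommRingCat.of (NodeAlg k a)) : Type u),
      topologicalKrullDim Z = 1) ∧
      Curv2.AtWorstNodal k (Spec (CommRingCat.of (NodeAlg k a))) := by
  letI : (Spec (CommRingCat.of (NodeAlg k a))).Over (Spec (CommRingCat.of k)) := ⟨nodeToBase k a⟩
  haveI : LocallyOfFinitePresentation ((Spec (CommRingCat.of (NodeAlg k a))) ↘ Spec (CommRingCat.of k)) := by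
    show LocallyOfFinitePresentation (nodeToBase k a)
    rw [HasRingHomProperty.Spec_iff (P := @LocallyOfFinitePresentation)]
    exact RingHom.finitePresentation_algebraMap.2
      (Algebra.FinitePresentation.quotient (Submodule.fg_span_singleton _))
  haveI : LocallyOfFiniteType ((Spec (CommRingCat.of (NodeAlg k a))) ↘ Spec (CommRingCat.of k)) :=
    inferInstance
  refine ⟨H25.Node.Dim.comps_one ?_ fun y hy => ?_, fun x hx => ?_⟩
  · exact (PrimeSpectrum.topologicalKrullDim_eq_ringKrullDim (NodeAlg k a)).le.trans (dim_le_one a)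
  · have : y.asIdeal.IsMaximal := (PrimeSpectrum.isClosed_singleton_iff_isMaximal y).1 hy
    obtain ⟨p, hp, hlt⟩ := exists_lt y.asIdeal
    exact ⟨⟨p, hp⟩, (PrimeSpectrum.le_iff_specializes _ y).1 hlt.le,
      fun e => hlt.ne (congrArg PrimeSpectrum.asIdeal e)⟩
  · have hmax : x.asIdeal.IsMaximal := (PrimeSpectrum.isClosed_singleton_iff_isMaximal x).1 hx
    by_cases hor : gen a 0 ∉ x.asIdeal ∨ gen a 1 ∉ x.asIdeal
    · exact Or.inl ((H25.Node.AtWorst.exists_smooth_iff k _ x).2 (mem_smoothLocus a rfl x hor))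
    simp only [not_or, not_not] at hor
    have ha : a = 0 := by
      by_contra ha
      refine x.2.ne_top (Ideal.eq_top_of_isUnit_mem _ (Ideal.mul_mem_left _ (gen a 0) hor.2) ?_)
      rw [gen_mul]
      exact (Ne.isUnit ha).map _
    subst ha
    have hmx : x.asIdeal = Ideal.span {gen (0 : k) 0, gen (0 : k) 1} :=
      ((span_isMaximal (k := k)).eq_of_le x.2.ne_top (by
        rw [Ideal.span_le, Set.insert_subset_iff, Set.singleton_subset_iff]
        exact hor)).symm
    let st := (Spec (CommRingCat.of (NodeAlg k 0))).presheaf.stalk x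
    letI : Algebra (NodeAlg k 0) st := StructureSheaf.stalkAlgebra _ x
    haveI : IsLocalization.AtPrime st x.asIdeal := StructureSheaf.IsLocalization.to_stalk _ x
    haveI : (Ideal.span {gen (0 : k) 0, gen (0 : k) 1}).IsPrime := hmx ▸ x.2
    haveI : IsLocalization.AtPrime st (Ideal.span {gen (0 : k) 0, gen (0 : k) 1}) := by
      convert (inferInstance : IsLocalization.AtPrime st x.asIdeal) using 2 <;> rw [hmx]
    haveI : IsLocallyNoetherian (Spec (CommRingCat.of (NodeAlg k 0))) :=
      LocallyOfFiniteType.isLocallyNoetherian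
        ((Spec (CommRingCat.of (NodeAlg k 0))) ↘ Spec (CommRingCat.of k))
    refine Or.inr ((H25.Node.Sch.isNode_iff k _ x).2 ⟨hx, ?_, isNodal (k := k) (A' := st)⟩)
    letI := Curv2.stalkAlgebra k (Spec (CommRingCat.of (NodeAlg k 0))) x
    haveI : IsScalarTower k (NodeAlg k 0) st :=
      IsScalarTower.of_algebraMap_eq fun c => stalkMap_algebraMap (0 : k) x c
    have hs : Function.Surjective (algebraMap k (ResidueField st)) :=
      residue_surjective (k := k) (A' := st)
    haveI : Algebra.IsIntegral k (ResidueField st) := ⟨fun z => by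
      obtain ⟨c, rfl⟩ := hs z
      exact isIntegral_algebraMap⟩
    exact ⟨fun z => by
      obtain ⟨c, rfl⟩ := hs z
      exact isSeparable_algebraMap c⟩

end scheme

end Groth.Agent.Lib.NodeModel.Field
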