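import Groth.Prelude.Def_StrictSS
import Mathlib.RingTheory.Flat.Basic
import Mathlib.RingTheory.TensorProduct.MvPolynomial
import Mathlib.RingTheory.Localization.Away.Basic
import Mathlib.RingTheory.KrullDimension.Polynomial
import Mathlib.RingTheory.MvPolynomial.Ideal

/-!
# The algebra `A[u,v]/(uv - a)`
-/

set_option autoImplicit false

universe u

namespace Groth.Agent.Lib.NodeModel.Algebra

open StrictSS (NodeAlg)
open scoped TensorProduct

variable {A : Type u} [CommRing A] (a : A)

/-- The ideal of the node model. -/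
noncomputable abbrev rel : Ideal (MvPolynomial (Fin 2) A) :=
  Ideal.span {(MvPolynomial.X 0 * MvPolynomial.X 1 - MvPolynomial.C a : MvPolynomial (Fin 2) A)}

/-- The coordinate `u` or `v`. -/
noncomputable abbrev gen (i : Fin 2) : NodeAlg A a := Ideal.Quotient.mk _ (MvPolynomial.X i)

theorem gen_mul : gen a 0 * gen a 1 = algebraMap A (NodeAlg A a) a := by
  have h : Ideal.Quotient.mk (rel a)
      (MvPolynomial.X 0 * MvPolynomial.X 1 - MvPolynomial.C a : MvPolynomial (Fin 2) A) = 0 :=
    Ideal.Quotient.eq_zero_iff_mem.2 (Ideal.mem_span_singleton_self _)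
  rw [map_sub, map_mul, sub_eq_zero] at h
  exact h

theorem hom_ext {C : Type u} [CommRing C] [Algebra A C] {f g : NodeAlg A a →ₐ[A] C}
    (h : ∀ i, f (gen a i) = g (gen a i)) : f = g :=
  Ideal.Quotient.algHom_ext A (MvPolynomial.algHom_ext fun i => h i)

/-- A map out of the node model. -/
noncomputable def lift {C : Type u} [CommRing C] [Algebra A C] (x y : C)
    (h : x * y = algebraMap A C a) : NodeAlg A a →ₐ[A] C :=
  Ideal.Quotient.liftₐ _ (MvPolynomial.aeval ![x, y]) fun p hp => by
    obtain ⟨q, rfl⟩ := Ideal.mem_span_singleton'.1 hp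
    simp [h]

theorem lift_gen {C : Type u} [CommRing C] [Algebra A C] (x y : C)
    (h : x * y = algebraMap A C a) (i : Fin 2) : lift a x y h (gen a i) = ![x, y] i := by
  show MvPolynomial.aeval ![x, y] (MvPolynomial.X i) = _
  simp

/-- Exchanging the coordinates. -/
noncomputable def swap : NodeAlg A a ≃ₐ[A] NodeAlg A a :=
  AlgEquiv.ofAlgHom (lift a (gen a 1) (gen a 0) (by rw [mul_comm]; exact gen_mul a))
    (lift a (gen a 1) (gen a 0) (by rw [mul_comm]; exact gen_mul a))
    (hom_ext a fun i => by fin_cases i <;> simp [lift_gen])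
    (hom_ext a fun i => by fin_cases i <;> simp [lift_gen])

theorem swap_gen (i : Fin 2) : swap a (gen a i) = ![gen a 1, gen a 0] i :=
  lift_gen a (gen a 1) (gen a 0) (by rw [mul_comm]; exact gen_mul a) i

/-- The node model commutes with base change. -/
theorem baseChange (K : Type u) [CommRing K] [Algebra A K] :
    Nonempty (K ⊗[A] NodeAlg A a ≃ₐ[K] NodeAlg K (algebraMap A K a)) := by
  let b := algebraMap A K a
  let g₀ : NodeAlg A a →ₐ[A] NodeAlg K b := lift a (gen b 0) (gen b 1)
    ((gen_mul b).trans (IsScalarTower.algebraMap_apply A K (NodeAlg K b) a).symm)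
  let F : K ⊗[A] NodeAlg A a →ₐ[K] NodeAlg K b :=
    Algebra.TensorProduct.lift (Algebra.ofId K _) g₀ fun _ _ => Commute.all _ _
  have hb : (Algebra.TensorProduct.includeRight (gen a 0) : K ⊗[A] NodeAlg A a) *
      Algebra.TensorProduct.includeRight (gen a 1) = algebraMap K _ b := by
    rw [← map_mul, gen_mul, AlgHom.commutes,
      IsScalarTower.algebraMap_apply A K (K ⊗[A] NodeAlg A a)]
  let G : NodeAlg K b →ₐ[K] K ⊗[A] NodeAlg A a :=
    lift (C := K ⊗[A] NodeAlg A a) b (Algebra.TensorProduct.includeRight (gen a 0))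
      (Algebra.TensorProduct.includeRight (gen a 1)) hb
  refine ⟨AlgEquiv.ofAlgHom F G (hom_ext b fun i => ?_) ?_⟩
  · show F (G (gen b i)) = gen b i
    rw [lift_gen]
    fin_cases i <;> simp [F, g₀, lift_gen]
  · refine Algebra.TensorProduct.ext (by ext) ?_
    refine Ideal.Quotient.algHom_ext A (MvPolynomial.algHom_ext fun i => ?_)
    show G (F (1 ⊗ₜ gen a i)) = 1 ⊗ₜ gen a i
    have : F (1 ⊗ₜ gen a i) = gen b i := by
      fin_cases i <;> simp [F, g₀, lift_gen]
    rw [this, lift_gen]
    fin_cases i <;> simp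

/-- The image of a monomial in `A[u] × v A[v]`. -/
noncomputable def nf (i j : ℕ) : Polynomial A × Polynomial A :=
  if j ≤ i then (Polynomial.monomial (i - j) (a ^ j), 0)
  else (0, Polynomial.monomial (j - i - 1) (a ^ i))

/-- The normal form map. -/
noncomputable def nfMap : MvPolynomial (Fin 2) A →ₗ[A] Polynomial A × Polynomial A :=
  (MvPolynomial.basisMonomials (Fin 2) A).constr A fun d => nf a (d 0) (d 1)

theorem nfMap_monomial (d : Fin 2 →₀ ℕ) :
    nfMap a (MvPolynomial.monomial d 1) = nf a (d 0) (d 1) := by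
  have := (MvPolynomial.basisMonomials (Fin 2) A).constr_basis A (fun d => nf a (d 0) (d 1)) d
  rw [MvPolynomial.coe_basisMonomials] at this
  exact this

theorem nfMap_eq_zero {p : MvPolynomial (Fin 2) A} (hp : p ∈ rel a) : nfMap a p = 0 := by
  obtain ⟨q, rfl⟩ := Ideal.mem_span_singleton'.1 hp
  suffices h : (nfMap a).comp (LinearMap.mulRight A
      (MvPolynomial.X 0 * MvPolynomial.X 1 - MvPolynomial.C a : MvPolynomial (Fin 2) A)) = 0 from
    LinearMap.congr_fun h q
  refine (MvPolynomial.basisMonomials (Fin 2) A).ext fun d => ?_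
  have h1 : MvPolynomial.monomial d (1 : A) * (MvPolynomial.X 0 * MvPolynomial.X 1 - MvPolynomial.C a) =
      MvPolynomial.monomial (d + (Finsupp.single 0 1 + Finsupp.single 1 1)) 1 -
        a • MvPolynomial.monomial d 1 := by
    rw [mul_sub, MvPolynomial.X, MvPolynomial.X, MvPolynomial.monomial_mul,
      MvPolynomial.monomial_mul, mul_comm (MvPolynomial.monomial d (1 : A)) (MvPolynomial.C a),
      MvPolynomial.smul_eq_C_mul]
    simp
  simp only [MvPolynomial.coe_basisMonomials, LinearMap.comp_apply, LinearMap.mulRight_apply,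
    LinearMap.zero_apply]
  rw [h1, map_sub, map_smul, nfMap_monomial, nfMap_monomial]
  simp only [Finsupp.add_apply, Finsupp.single_apply, nf]
  simp only [Fin.isValue, ↓reduceIte, zero_ne_one, one_ne_zero, add_zero, zero_add,
    Nat.add_le_add_iff_right, Nat.add_sub_add_right]
  split_ifs with h
  · simp [Polynomial.smul_monomial, pow_succ']
  · simp [Polynomial.smul_monomial, pow_succ']

/-- The normal form on the node model. -/
noncomputable def nfBar : NodeAlg A a →ₗ[A] Polynomial A × Polynomial A :=
  ((rel a).restrictScalars A).liftQ (nfMap a) fun _ hp => nfMap_eq_zero a hp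

theorem nfBar_mk (p : MvPolynomial (Fin 2) A) :
    nfBar a (Ideal.Quotient.mk _ p) = nfMap a p := rfl

/-- The node model is flat over its base. -/
theorem flat : Module.Flat A (NodeAlg A a) := by
  let ψ : Polynomial A × Polynomial A →ₗ[A] NodeAlg A a :=
    (Polynomial.aeval (gen a 0)).toLinearMap.coprod
      ((LinearMap.mulLeft A (gen a 1)) ∘ₗ (Polynomial.aeval (gen a 1)).toLinearMap)
  refine Module.Flat.of_retract (nfBar a) ψ ?_
  refine LinearMap.ext fun x => ?_
  obtain ⟨p, rfl⟩ := Ideal.Quotient.mk_surjective x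
  rw [LinearMap.comp_apply, nfBar_mk, LinearMap.id_apply]
  induction p using MvPolynomial.induction_on' with
  | add p q hp hq =>
    rw [map_add, map_add, map_add]
    exact congrArg₂ (· + ·) hp hq
  | monomial d c => ?_
  have hd : (Ideal.Quotient.mk (rel a) (MvPolynomial.monomial d 1) : NodeAlg A a) =
      gen a 0 ^ d 0 * gen a 1 ^ d 1 := by
    rw [MvPolynomial.monomial_eq, map_one, one_mul, Finsupp.prod_fintype _ _ fun i => pow_zero _,
      Fin.prod_univ_two, map_mul, map_pow, map_pow]
  have hc : MvPolynomial.monomial d c = c • MvPolynomial.monomial d (1 : A) := by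
    rw [MvPolynomial.smul_monomial, smul_eq_mul, mul_one]
  rw [hc, map_smul, map_smul, nfMap_monomial]
  show c • ψ _ = c • (Ideal.Quotient.mk (rel a) (MvPolynomial.monomial d 1) : NodeAlg A a)
  congr 1
  rw [hd]
  simp only [nf, ψ]
  split_ifs with h
  · simp only [LinearMap.coprod_apply, map_zero, add_zero, AlgHom.toLinearMap_apply,
      Polynomial.aeval_monomial, map_pow]
    rw [← gen_mul, mul_pow, mul_comm, ← mul_assoc, ← pow_add, Nat.sub_add_cancel h]
  · simp only [LinearMap.coprod_apply, map_zero, zero_add, LinearMap.comp_apply,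
      AlgHom.toLinearMap_apply, LinearMap.mulLeft_apply, Polynomial.aeval_monomial, map_pow]
    rw [← gen_mul, mul_pow]
    have h2 : d 1 = d 0 + (d 1 - d 0 - 1) + 1 := by omega
    conv_rhs => rw [h2, pow_succ, pow_add]
    ring

/-- `A[T][1/T]`. -/
abbrev Torus (A : Type u) [CommRing A] : Type u :=
  Localization.Away (Polynomial.X : Polynomial A)

/-- Where `u` is invertible the node model is the torus. -/
theorem away : Nonempty (Localization.Away (gen a 0) ≃ₐ[A] Torus A) := by
  let X' : Torus A := algebraMap (Polynomial A) (Torus A) Polynomial.X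
  let inv : Torus A := IsLocalization.Away.invSelf (S := Torus A) (Polynomial.X : Polynomial A)
  have hX : X' * inv = 1 := IsLocalization.Away.mul_invSelf (S := Torus A) _
  let f : NodeAlg A a →ₐ[A] Torus A := lift a X' (algebraMap A _ a * inv)
    (by rw [mul_left_comm, hX, mul_one])
  have hf0 : f (gen a 0) = X' := lift_gen ..
  let F : Localization.Away (gen a 0) →ₐ[A] Torus A :=
    IsLocalization.liftAlgHom (M := Submonoid.powers (gen a 0)) (f := f) (by
      rintro ⟨_, n, rfl⟩
      simp only [map_pow, hf0]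
      exact (IsUnit.of_mul_eq_one inv hX).pow n)
  let w : Localization.Away (gen a 0) := algebraMap (NodeAlg A a) _ (gen a 0)
  let g₀ : Polynomial A →ₐ[A] Localization.Away (gen a 0) := Polynomial.aeval w
  let G : Torus A →ₐ[A] Localization.Away (gen a 0) :=
    IsLocalization.liftAlgHom (M := Submonoid.powers (Polynomial.X : Polynomial A)) (f := g₀) (by
      rintro ⟨_, n, rfl⟩
      simp only [map_pow, g₀, Polynomial.aeval_X]
      exact (IsLocalization.Away.algebraMap_isUnit (gen a 0)).pow n)
  have hGX : G X' = w := by simp [G, X', g₀]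
  refine ⟨AlgEquiv.ofAlgHom F G ?_ ?_⟩
  · refine IsLocalization.algHom_ext (Submonoid.powers (Polynomial.X : Polynomial A)) ?_
    refine Polynomial.algHom_ext ?_
    show F (G X') = X'
    rw [hGX]
    simp [F, w, hf0]
  · refine IsLocalization.algHom_ext (Submonoid.powers (gen a 0)) (hom_ext a ?_)
    intro i
    show G (F (algebraMap _ _ (gen a i))) = algebraMap _ _ (gen a i)
    have h0 : G (f (gen a 0)) = w := by rw [hf0, hGX]
    fin_cases i
    · simpa [F] using h0
    · refine (IsLocalization.Away.algebraMap_isUnit (S := Localization.Away (gen a 0))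
        (gen a 0)).mul_left_cancel ?_
      show w * G (F (algebraMap _ _ (gen a 1))) = algebraMap _ _ (gen a 0) * algebraMap _ _ (gen a 1)
      rw [← map_mul, gen_mul, ← IsScalarTower.algebraMap_apply A (NodeAlg A a)]
      have : F (algebraMap _ _ (gen a 1)) = f (gen a 1) := by simp [F]
      rw [this, ← h0, ← map_mul, ← map_mul, gen_mul, AlgHom.commutes, AlgHom.commutes]

section field

variable {k : Type u} [Field k]

/-- `u`-axis of the split node. -/
noncomputable def axis : NodeAlg k 0 →ₐ[k] Polynomial k :=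
  lift (0 : k) Polynomial.X 0 (by simp)

theorem mem_or_mem {a : k} (ha : a = 0) (P : Ideal (NodeAlg k a)) [P.IsPrime] :
    gen a 0 ∈ P ∨ gen a 1 ∈ P :=
  Ideal.IsPrime.mem_or_mem ‹_› (by
    have h := gen_mul a
    have h0 : algebraMap k (NodeAlg k a) a = 0 := (RingHom.congr_arg _ ha).trans (RingHom.map_zero _)
    rw [h.trans h0]
    exact zero_mem _)

theorem axis_surjective : Function.Surjective (axis (k := k)) := fun p => by
  refine ⟨Polynomial.aeval (gen 0 0) p, ?_⟩
  rw [← Polynomial.aeval_algHom_apply]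
  simp [axis, lift_gen]

theorem ker_axis : RingHom.ker (axis (k := k)) = Ideal.span {gen (0 : k) 1} := by
  refine le_antisymm (fun x hx => ?_) ?_
  · let π := Ideal.Quotient.mkₐ k (Ideal.span {gen (0 : k) 1})
    let σ : Polynomial k →ₐ[k] NodeAlg k 0 ⧸ Ideal.span {gen (0 : k) 1} :=
      Polynomial.aeval (π (gen 0 0))
    have : σ.comp (axis (k := k)) = π := by
      refine hom_ext (0 : k) (C := NodeAlg k 0 ⧸ Ideal.span {gen (0 : k) 1}) (f := σ.comp axis) (g := π) fun i => ?_
      fin_cases i
      · simp [σ, axis, lift_gen]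
      · have h0 : π (gen (0 : k) 1) = 0 :=
          Ideal.Quotient.eq_zero_iff_mem.2 (Ideal.mem_span_singleton_self _)
        simp [σ, axis, lift_gen, h0]
    refine Ideal.Quotient.eq_zero_iff_mem.1 ?_
    show π x = 0
    rw [← this, AlgHom.comp_apply, RingHom.mem_ker.1 hx]
    exact RingHom.map_zero σ.toRingHom
  · rw [Ideal.span_le, Set.singleton_subset_iff]
    simp [axis, lift_gen]

end field

end Groth.Agent.Lib.NodeModel.Algebra
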