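import Groth.Agent.Lib.NodeModel.Field
import Groth.Agent.H25.Node.Invariance
import Mathlib.RingTheory.PolynomialAlgebra
import Mathlib.RingTheory.Flat.Basic
import Mathlib.AlgebraicGeometry.Morphisms.Flat

/-!
# The line and node models are at-worst-nodal families
-/

set_option autoImplicit false
set_option linter.style.haveILetI false

universe u

open CategoryTheory CategoryTheory.Limits AlgebraicGeometry
open scoped TensorProduct

namespace Groth.Agent.Lib.NodeModel.Family

open StrictSS (NodeAlg nodeToBase lineToBase)

/-- Transport from the algebraic base change. -/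
theorem aux {A B K C : Type u} [CommRing A] [CommRing B] [Algebra A B] [Field K] [Algebra A K]
    [CommRing C] [Algebra K C] (e : K ⊗[A] B ≃ₐ[K] C) [Algebra.FiniteType K C]
    (h : letI : (Spec (CommRingCat.of C)).Over (Spec (CommRingCat.of K)) :=
        ⟨Spec.map (CommRingCat.ofHom (algebraMap K C))⟩
      (∀ Z ∈ irreducibleComponents (Spec (CommRingCat.of C) : Type u), topologicalKrullDim Z = 1) ∧
        Curv2.AtWorstNodal K (Spec (CommRingCat.of C)))
    {F : Scheme.{u}} [F.Over (Spec (CommRingCat.of K))]
    (g : F ⟶ pullback (Spec.map (CommRingCat.ofHom (algebraMap A B)))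
      (Spec.map (CommRingCat.ofHom (algebraMap A K)))) [IsIso g]
    (hg : g ≫ pullback.snd _ _ = F ↘ Spec (CommRingCat.of K)) :
    (∀ Z ∈ irreducibleComponents (F : Type u), topologicalKrullDim Z = 1) ∧
      Curv2.AtWorstNodal K F := by
  letI : (Spec (CommRingCat.of C)).Over (Spec (CommRingCat.of K)) :=
    ⟨Spec.map (CommRingCat.ofHom (algebraMap K C))⟩
  haveI : LocallyOfFiniteType ((Spec (CommRingCat.of C)) ↘ Spec (CommRingCat.of K)) := by
    show LocallyOfFiniteType (Spec.map (CommRingCat.ofHom (algebraMap K C)))
    rw [HasRingHomProperty.Spec_iff (P := @LocallyOfFiniteType)]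
    exact RingHom.finiteType_algebraMap.2 ‹_›
  let π : F ⟶ Spec (CommRingCat.of C) := g ≫ (pullbackSymmetry _ _).hom ≫
    (pullbackSpecIso A K B).hom ≫ Spec.map e.symm.toRingEquiv.toCommRingCatIso.hom
  have hπ : π ≫ ((Spec (CommRingCat.of C)) ↘ Spec (CommRingCat.of K)) =
      F ↘ Spec (CommRingCat.of K) := by
    show π ≫ Spec.map (CommRingCat.ofHom (algebraMap K C)) = F ↘ Spec (CommRingCat.of K)
    have h1 : Spec.map e.symm.toRingEquiv.toCommRingCatIso.hom ≫
        Spec.map (CommRingCat.ofHom (algebraMap K C)) =
          Spec.map (CommRingCat.ofHom (algebraMap K (K ⊗[A] B))) := by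
      rw [← Spec.map_comp]
      congr 1
      ext c
      exact e.symm.commutes c
    simp only [π, Category.assoc, h1, pullbackSpecIso_hom_fst', pullbackSymmetry_hom_comp_fst, hg]
  exact H25.Node.Invariance.etale K (Spec (CommRingCat.of C)) h.1 h.2 π hπ

/-- Fibres of a family of affine schemes whose base change is given algebraically. -/
theorem fibre_nodal {A B : Type u} [CommRing A] [CommRing B] [Algebra A B]
    (s : Spec (CommRingCat.of A))
    (hB : ∀ (K : Type u) [Field K] [Algebra A K], ∃ (C : Type u) (_ : CommRing C) (_ : Algebra K C)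
      (_ : K ⊗[A] B ≃ₐ[K] C), Algebra.FiniteType K C ∧
      letI : (Spec (CommRingCat.of C)).Over (Spec (CommRingCat.of K)) :=
        ⟨Spec.map (CommRingCat.ofHom (algebraMap K C))⟩
      (∀ Z ∈ irreducibleComponents (Spec (CommRingCat.of C) : Type u), topologicalKrullDim Z = 1) ∧
        Curv2.AtWorstNodal K (Spec (CommRingCat.of C))) :
    let f := Spec.map (CommRingCat.ofHom (algebraMap A B))
    letI : (f.fiber s).Over (Spec ((Spec (CommRingCat.of A)).residueField s)) :=
      ⟨f.fiberToSpecResidueField s⟩
    (∀ Z ∈ irreducibleComponents (f.fiber s : Type u), topologicalKrullDim Z = 1) ∧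
      Curv2.AtWorstNodal ((Spec (CommRingCat.of A)).residueField s) (f.fiber s) := by
  intro f
  letI : Algebra A ((Spec (CommRingCat.of A)).residueField s) :=
    (Spec.preimage ((Spec (CommRingCat.of A)).fromSpecResidueField s)).hom.toAlgebra
  have hφ : Spec.map (CommRingCat.ofHom (algebraMap A ((Spec (CommRingCat.of A)).residueField s))) =
      (Spec (CommRingCat.of A)).fromSpecResidueField s := Spec.map_preimage _
  obtain ⟨C, _, _, e, hft, h⟩ := hB ((Spec (CommRingCat.of A)).residueField s)
  letI : (f.fiber s).Over (Spec (CommRingCat.of ((Spec (CommRingCat.of A)).residueField s))) :=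
    ⟨f.fiberToSpecResidueField s⟩
  let c := pullback.congrHom (f₁ := f) (f₂ := f) rfl hφ.symm
  let g : f.fiber s ⟶ pullback f (Spec.map (CommRingCat.ofHom
      (algebraMap A ((Spec (CommRingCat.of A)).residueField s)))) := c.hom
  haveI : IsIso g := c.isIso_hom
  refine aux e h (F := f.fiber s) g ?_
  show c.hom ≫ pullback.snd _ _ = _
  simp only [c, pullback.congrHom_hom, pullback.lift_snd, Category.comp_id]
  rfl

/-- The node model is an at-worst-nodal family. -/
theorem node (A : Type u) [CommRing A] (a : A) : Curv2.IsNodalFamily (nodeToBase A a) := by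
  refine ⟨?_, ?_, fun s => fibre_nodal s fun K _ _ => ?_⟩
  · rw [HasRingHomProperty.Spec_iff (P := @Flat)]
    exact RingHom.flat_algebraMap_iff.2 (Algebra.flat a)
  · rw [HasRingHomProperty.Spec_iff (P := @LocallyOfFinitePresentation)]
    exact RingHom.finitePresentation_algebraMap.2
      (Algebra.FinitePresentation.quotient (Submodule.fg_span_singleton _))
  · obtain ⟨e⟩ := Algebra.baseChange a K
    exact ⟨_, inferInstance, inferInstance, e, inferInstance, Field.nodal (algebraMap A K a)⟩

/-- The line model is an at-worst-nodal family. -/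
theorem line (A : Type u) [CommRing A] : Curv2.IsNodalFamily (lineToBase A) := by
  have key : lineToBase A = Spec.map (CommRingCat.ofHom (algebraMap A (Polynomial A))) := rfl
  rw [key]
  refine ⟨?_, ?_, fun s => fibre_nodal s fun K _ _ => ?_⟩
  · rw [HasRingHomProperty.Spec_iff (P := @Flat)]
    exact RingHom.flat_algebraMap_iff.2 inferInstance
  · rw [HasRingHomProperty.Spec_iff (P := @LocallyOfFinitePresentation)]
    exact RingHom.finitePresentation_algebraMap.2 inferInstance
  · refine ⟨Polynomial K, inferInstance, inferInstance,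
      AlgEquiv.ofRingEquiv (f := (polyEquivTensor A K).symm.toRingEquiv) (fun c => ?_), inferInstance,
      fun Z hZ => ?_, fun x _ => Or.inl ⟨⊤, trivial, ?_⟩⟩
    · show (polyEquivTensor A K).symm (c ⊗ₜ[A] 1) = _
      simp [polyEquivTensor_symm_apply_tmul_eq_smul, Polynomial.smul_eq_C_mul]
    · haveI : IrreducibleSpace (Spec (CommRingCat.of (Polynomial K))) :=
        inferInstanceAs (IrreducibleSpace (PrimeSpectrum (Polynomial K)))
      rw [irreducibleComponents_eq_singleton, Set.mem_singleton_iff] at hZ
      subst hZ
      rw [(Homeomorph.Set.univ _).isHomeomorph.topologicalKrullDim_eq]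
      refine (PrimeSpectrum.topologicalKrullDim_eq_ringKrullDim (Polynomial K)).trans ?_
      rw [Polynomial.ringKrullDim_of_isNoetherianRing, ringKrullDim_eq_zero_of_field, zero_add]
    · haveI : Smooth (Spec.map (CommRingCat.ofHom (algebraMap K (Polynomial K)))) := by
        rw [HasRingHomProperty.Spec_iff (P := @Smooth)]
        haveI : Algebra.Smooth K (Polynomial K) := {}
        exact RingHom.smooth_algebraMap.2 ‹_›
      exact inferInstanceAs (Smooth (_ ≫ Spec.map (CommRingCat.ofHom (algebraMap K (Polynomial K)))))

/-- The line model is smooth. -/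
theorem smooth_line (A : Type u) [CommRing A] : Smooth (lineToBase A) := by
  show Smooth (Spec.map (CommRingCat.ofHom (algebraMap A (Polynomial A))))
  rw [HasRingHomProperty.Spec_iff (P := @Smooth)]
  haveI : Algebra.Smooth A (Polynomial A) := {}
  exact RingHom.smooth_algebraMap.2 ‹_›

end Groth.Agent.Lib.NodeModel.Family
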